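import Cfsg.Agent.H770.CY.Defs
import Cfsg.Agent.H145.BR.Congr

/-!
# S4829: transport of the rows along an isomorphism (helper776)

`RowA.congr`, `Row2.congr`.
-/

set_option autoImplicit false

open Subgroup

namespace Cfsg.Agent.H776.CY

open Cfsg Cfsg.Agent.H770.CY Cfsg.Agent.H145.BR

universe u v

variable {p : ℕ} {S : Type u} {T : Type v} [Group S] [Group T] (e : S ≃* T)

/-- the image of a group of automorphisms -/
abbrev mp (A : Subgroup (MulAut S)) : Subgroup (MulAut T) := A.map (MulAut.congr e).toMonoidHom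

theorem mem_mp {A : Subgroup (MulAut S)} {a : MulAut S} (ha : a ∈ A) : MulAut.congr e a ∈ mp e A :=
  Subgroup.mem_map_of_mem _ ha

/-- `A` is isomorphic to its image -/
noncomputable def eA (A : Subgroup (MulAut S)) : A ≃* mp e A :=
  A.equivMapOfInjective (MulAut.congr e).toMonoidHom (MulAut.congr e).injective

theorem eA_coe (A : Subgroup (MulAut S)) (a : A) : ((eA e A a : mp e A) : MulAut T) = MulAut.congr e a := rfl

theorem isCharacter_comp {G : Type u} {H : Type v} [Group G] [Group H] (f : G →* H) {χ : H → ℂ} (h : IsCharacter H χ) :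
    IsCharacter G (χ ∘ f) := by
  obtain ⟨n, ρ, hρ⟩ := h
  refine ⟨n, ρ.comp f, ?_⟩
  rw [← hρ]
  rfl

theorem cyc_comp {G : Type u} {H : Type v} [Group G] [Group H] (f : G ≃* H) {χ : H → ℂ} (h : Cyc p χ) :
    Cyc p (fun g : G => χ (f g)) := by
  intro k hk h1 g
  show χ (f (g ^ k)) = χ (f g)
  rw [map_pow]
  exact h k (by rwa [← Nat.card_congr f.toEquiv]) h1 (f g)

theorem conj_mem_mp {A : Subgroup (MulAut S)} (hA : ∀ s : S, MulAut.conj s ∈ A) (t : T) : MulAut.conj t ∈ mp e A := by
  refine ⟨MulAut.conj (e.symm t), hA _, ?_⟩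
  show MulAut.congr e (MulAut.conj (e.symm t)) = _
  rw [congr_conj, MulEquiv.apply_symm_apply]

theorem range_map : (MulAut.conj : S →* MulAut S).range.map (MulAut.congr e).toMonoidHom =
    (MulAut.conj : T →* MulAut T).range := by
  ext x
  constructor
  · rintro ⟨y, ⟨s, rfl⟩, rfl⟩
    exact ⟨e s, (congr_conj e s).symm⟩
  · rintro ⟨t, rfl⟩
    refine ⟨MulAut.conj (e.symm t), ⟨_, rfl⟩, ?_⟩
    show MulAut.congr e (MulAut.conj (e.symm t)) = _
    rw [congr_conj, MulEquiv.apply_symm_apply]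

theorem relIndex_map {G : Type u} {H : Type v} [Group G] [Group H] (f : G ≃* H) (K L : Subgroup G) :
    (K.map f.toMonoidHom).relIndex (L.map f.toMonoidHom) = K.relIndex L :=
  Subgroup.relIndex_map_map_of_injective K L f.injective

theorem Amb.map {A : Subgroup (MulAut S)} (h : Amb p S A) : Amb p T (mp e A) := by
  obtain ⟨h1, X, h2, h3, h4, h5, k, h6⟩ := h
  refine ⟨conj_mem_mp e h1, mp e X, Subgroup.map_mono h2, conj_mem_mp e h3, ?_, ?_, k, ?_⟩
  · rintro _ ⟨a, ha, rfl⟩ _ ⟨x, hx, rfl⟩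
    refine ⟨a * x * a⁻¹, h4 a ha x hx, ?_⟩
    rw [map_mul, map_mul, map_inv]
  · rw [← range_map e, relIndex_map]
    exact h5
  · rw [relIndex_map]
    exact h6

/-- the image of a Sylow subgroup -/
noncomputable def syl (Q : Sylow p S) : Sylow p T where
  toSubgroup := (Q : Subgroup S).map e.toMonoidHom
  isPGroup' := Q.isPGroup'.map _
  is_maximal' := by
    intro K hK hle
    have h := Q.is_maximal' (hK.comap_of_injective e.toMonoidHom e.injective) (Subgroup.map_le_iff_le_comap.1 hle)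
    show K = (Q : Subgroup S).map e.toMonoidHom
    rw [← h, Subgroup.map_comap_eq_self_of_surjective e.surjective]

theorem mul_comp [Fintype S] [Fintype T] (ψ θ : T → ℂ) :
    H770.CY.mul (fun s : S => ψ (e s)) (fun s => θ (e s)) = H770.CY.mul ψ θ := by
  unfold H770.CY.mul
  rw [Nat.card_congr e.toEquiv]
  congr 1
  exact Fintype.sum_equiv e.toEquiv _ _ fun s => rfl

theorem WitA.comp [Fintype S] [Fintype T] {M : Ideal AlgInt} {A : Subgroup (MulAut S)} (hA : ∀ s : S, MulAut.conj s ∈ A)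
    {Ψ : mp e A → ℂ} (h : WitA p M T (mp e A) (conj_mem_mp e hA) Ψ) : WitA p M S A hA (fun a => Ψ (eA e A a)) where
  char := isCharacter_comp (eA e A).toMonoidHom h.char
  cyc := cyc_comp (eA e A) h.cyc
  deg := by
    obtain ⟨n, h1, h2⟩ := h.deg
    refine ⟨n, ?_, h2⟩
    show Ψ (eA e A 1) = n
    rw [map_one, h1]
  mf := by
    intro θ
    have hr : res hA (fun a => Ψ (eA e A a)) = fun s => res (conj_mem_mp e hA) Ψ (e s) := by
      funext s
      show Ψ _ = Ψ _
      congr 1
      apply Subtype.ext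
      rw [eA_coe]
      exact congr_conj e s
    have hθ : (θ : S → ℂ) = fun s => (H649.irrMap e θ : T → ℂ) (e s) := by
      funext s
      show _ = (θ : S → ℂ) (e.symm (e s))
      rw [MulEquiv.symm_apply_apply]
    have hm : H770.CY.mul (res hA (fun a => Ψ (eA e A a))) (θ : S → ℂ) =
        H770.CY.mul (res (conj_mem_mp e hA) Ψ) (H649.irrMap e θ : T → ℂ) := by
      rw [hr]
      conv_lhs => rw [hθ]
      exact mul_comp e _ _
    rw [hm]
    rcases h.mf (H649.irrMap e θ) with h1 | ⟨h1, h2, h3⟩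
    · exact Or.inl h1
    · refine Or.inr ⟨h1, fun h4 => h2 ?_, ?_⟩
      · funext t
        show (θ : S → ℂ) (e.symm t) = 1
        rw [h4]
      · rw [hθ]
        exact cyc_comp e h3
  loc := by
    rintro a ha ⟨Q, hQ⟩
    have h3 := h.loc (eA e A a) (by rwa [MulEquiv.orderOf_eq]) ⟨syl e Q, fun x hx => ?_⟩
    · show MemLocalIdeal M (Ψ (eA e A a) - Ψ (eA e A 1))
      rw [map_one]
      exact h3
    · obtain ⟨y, hy, rfl⟩ : x ∈ (Q : Subgroup S).map e.toMonoidHom := hx
      show MulAut.congr e a (e y) = e y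
      rw [congr_apply, MulEquiv.symm_apply_apply, hQ y hy]

include e in
/-- **transport of the row** -/
theorem RowA.congr [Fintype S] [Fintype T] (h : H770.CY.RowA p T) : H770.CY.RowA p S := by
  intro A hA M hM
  obtain ⟨Ψ, hΨ⟩ := h (mp e A) (Amb.map e hA) M hM
  exact ⟨_, WitA.comp e hA.1 hΨ⟩

include e in
/-- **transport of the row for `p = 2`** -/
theorem Row2.congr (h : Row2 T) : Row2 S := by
  intro B hB
  obtain ⟨θ, h1, h2, h3, h4⟩ := h (mp e B) (hB.map _)
  refine ⟨H649.irrMap e.symm θ, fun h5 => h1 ?_, ?_, ?_, fun b hb x => ?_⟩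
  · funext t
    have h7 := congrFun h5 (e.symm t)
    rw [irrMap_symm_apply, MulEquiv.apply_symm_apply] at h7
    exact h7
  · rw [H649.charDegree_irrMap]
    exact h2
  · exact cyc_comp e h3
  · rw [irrMap_symm_apply, irrMap_symm_apply]
    have h6 := h4 (MulAut.congr e b) (mem_mp e hb) (e x)
    rw [congr_apply, MulEquiv.symm_apply_apply] at h6
    exact h6

end Cfsg.Agent.H776.CY
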