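import Cfsg.Agent.H770.CY.Defs

/-!
# S4829: the rows for non-cyclic Sylow `p`-subgroups (helper776)

`RowForAN` : the row of a family, only for groups with non-cyclic Sylow `p`-subgroups; `RowCyc` : the row for all simple
groups with cyclic Sylow `p`-subgroups; `RowsAN.rowsA : RowsAN p → RowsA p`.
-/

set_option autoImplicit false

namespace Cfsg.Agent.H776.CY

open Cfsg Cfsg.Agent.H770.CY

/-- the row for all nonabelian simple groups `X` of order divisible by `p` with non-cyclic Sylow `p`-subgroups and the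
property `C` -/
def RowForAN (p : ℕ) (C : ∀ (X : Type) [Group X], Prop) : Prop :=
  ∀ (X : Type) [Group X] [Fintype X] [IsSimpleGroup X], ¬ IsMulCommutative X → p ∣ Nat.card X →
    (∀ Q : Sylow p X, ¬ IsCyclic Q) → C X → RowA p X

/-- the row for all nonabelian simple groups with cyclic Sylow `p`-subgroups -/
def RowCyc (p : ℕ) : Prop :=
  ∀ (X : Type) [Group X] [Fintype X] [IsSimpleGroup X], ¬ IsMulCommutative X → p ∣ Nat.card X →
    (∃ Q : Sylow p X, IsCyclic Q) → RowA p X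

theorem RowForAN.of_rowForA {p : ℕ} {C : ∀ (X : Type) [Group X], Prop} (h : RowForA p C) : RowForAN p C :=
  fun X _ _ _ hna hd _ hC => h X hna hd hC

theorem RowForAN.rowForA {p : ℕ} {C : ∀ (X : Type) [Group X], Prop} (hc : RowCyc p) (h : RowForAN p C) :
    RowForA p C := by
  intro X _ _ _ hna hd hC
  by_cases h1 : ∃ Q : Sylow p X, IsCyclic Q
  · exact hc X hna hd h1
  · exact h X hna hd (fun Q hQ => h1 ⟨Q, hQ⟩) hC

/-- **the rows for `p` odd**, non-cyclic Sylow `p`-subgroups, and the cyclic row -/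
structure RowsAN (p : ℕ) : Prop where
  cyc : RowCyc p
  alt : RowForAN p (fun X _ => IsAlternating X)
  lie : RowForAN p (fun X _ => IsLieTypeChar p X)
  psl : RowForAN p (fun X _ => ∃ (F : Type) (_ : Field F) (_ : Fintype F) (n : ℕ), (p : F) ≠ 0 ∧ 2 ≤ n ∧
    Nonempty (X ≃* Matrix.ProjectiveSpecialLinearGroup (Fin n) F))
  psp : RowForAN p (fun X _ => ∃ (F : Type) (_ : Field F) (_ : Fintype F) (m : ℕ), (p : F) ≠ 0 ∧ 2 ≤ m ∧
    Nonempty (X ≃* PSp m F))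
  psu : RowForAN p (fun X _ => ∃ (F : Type) (_ : Field F) (_ : Fintype F) (n q : ℕ), (p : F) ≠ 0 ∧
    Fintype.card F = q ^ 2 ∧ 3 ≤ n ∧ Nonempty (X ≃* PSU n F q))
  oodd : RowForAN p (fun X _ => ∃ (F : Type) (_ : Field F) (_ : Fintype F) (m : ℕ), (p : F) ≠ 0 ∧
    3 ≤ m ∧ Odd (Fintype.card F) ∧ Nonempty (X ≃* POmega F (quadFormOdd m F)))
  oplus : RowForAN p (fun X _ => ∃ (F : Type) (_ : Field F) (_ : Fintype F) (m : ℕ), (p : F) ≠ 0 ∧
    4 ≤ m ∧ Nonempty (X ≃* POmega F (quadFormPlus m F)))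
  ominus : RowForAN p (fun X _ => ∃ (F : Type) (_ : Field F) (_ : Fintype F) (m : ℕ) (a b : F), (p : F) ≠ 0 ∧
    4 ≤ m ∧ (∀ z₁ z₂ : F, z₁ ^ 2 + a * z₁ * z₂ + b * z₂ ^ 2 = 0 → z₁ = 0 ∧ z₂ = 0) ∧
    Nonempty (X ≃* POmega F (quadFormMinus (m - 1) F a b)))
  g2 : RowForAN p (fun X _ => ∃ (F : Type) (_ : Field F) (_ : Fintype F), (p : F) ≠ 0 ∧ 3 ≤ Fintype.card F ∧
    Nonempty (X ≃* Lie.chevG2.group F))
  f4 : RowForAN p (fun X _ => ∃ (F : Type) (_ : Field F) (_ : Fintype F), (p : F) ≠ 0 ∧ Nonempty (X ≃* Lie.chevF4.group F))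
  e6 : RowForAN p (fun X _ => ∃ (F : Type) (_ : Field F) (_ : Fintype F), (p : F) ≠ 0 ∧ Nonempty (X ≃* Lie.chevE6.group F))
  e7 : RowForAN p (fun X _ => ∃ (F : Type) (_ : Field F) (_ : Fintype F), (p : F) ≠ 0 ∧ Nonempty (X ≃* Lie.chevE7.group F))
  e8 : RowForAN p (fun X _ => ∃ (F : Type) (_ : Field F) (_ : Fintype F), (p : F) ≠ 0 ∧ Nonempty (X ≃* Lie.chevE8.group F))
  te6 : RowForAN p (fun X _ => ∃ (K : Type) (_ : Field K) (_ : Fintype K) (q : ℕ), (p : K) ≠ 0 ∧ IsPrimePow q ∧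
    Fintype.card K = q ^ 2 ∧ Nonempty (X ≃* Lie.twistedE6 K q))
  td4 : RowForAN p (fun X _ => ∃ (K : Type) (_ : Field K) (_ : Fintype K) (q : ℕ), (p : K) ≠ 0 ∧ IsPrimePow q ∧
    Fintype.card K = q ^ 3 ∧ Nonempty (X ≃* Lie.twistedD4 K q))
  sz : RowForAN p (fun X _ => Lie.IsoSuzuki X)
  ree : p ≠ 3 → RowForAN p (fun X _ => Lie.IsoRee X)
  tf4 : RowForAN p (fun X _ => Lie.Iso2F4 X)
  tits : RowForAN p (fun X _ => Lie.IsoTits X)
  spor : RowForAN p (fun X _ => IsSporadicGroup X)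

/-- **from the non-cyclic rows and the cyclic row to all rows** -/
theorem RowsAN.rowsA {p : ℕ} (R : RowsAN p) : RowsA p where
  alt := R.alt.rowForA R.cyc
  lie := R.lie.rowForA R.cyc
  psl := R.psl.rowForA R.cyc
  psp := R.psp.rowForA R.cyc
  psu := R.psu.rowForA R.cyc
  oodd := R.oodd.rowForA R.cyc
  oplus := R.oplus.rowForA R.cyc
  ominus := R.ominus.rowForA R.cyc
  g2 := R.g2.rowForA R.cyc
  f4 := R.f4.rowForA R.cyc
  e6 := R.e6.rowForA R.cyc
  e7 := R.e7.rowForA R.cyc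
  e8 := R.e8.rowForA R.cyc
  te6 := R.te6.rowForA R.cyc
  td4 := R.td4.rowForA R.cyc
  sz := R.sz.rowForA R.cyc
  ree := fun h3 => (R.ree h3).rowForA R.cyc
  tf4 := R.tf4.rowForA R.cyc
  tits := R.tits.rowForA R.cyc
  spor := R.spor.rowForA R.cyc

end Cfsg.Agent.H776.CY
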