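import Cfsg.Agent.H776.CY.Congr
import Cfsg.Agent.H145.BR.Table

/-!
# S4829: the dispatch (helper776)

`rowA_known` : from the rows, `RowA p G` for every known nonabelian simple group `G` with `p ∣ |G|`; `rowA_all` : for all
nonabelian simple groups, given the classification.  `Rows2`, `row2_all` : the same for `p = 2`.
-/

set_option autoImplicit false

open Subgroup

namespace Cfsg.Agent.H776.CY

open Cfsg Cfsg.Agent.H770.CY Cfsg.Agent.H145.BR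

universe u

/-- **the rows for `p = 2`** -/
structure Rows2 : Prop where
  alt : RowFor2 (fun X _ => IsAlternating X)
  lie : RowFor2 (fun X _ => IsLieTypeChar 2 X)
  psl : RowFor2 (fun X _ => ∃ (F : Type) (_ : Field F) (_ : Fintype F) (n : ℕ), ((2 : ℕ) : F) ≠ 0 ∧ 2 ≤ n ∧
    Nonempty (X ≃* Matrix.ProjectiveSpecialLinearGroup (Fin n) F))
  psp : RowFor2 (fun X _ => ∃ (F : Type) (_ : Field F) (_ : Fintype F) (m : ℕ), ((2 : ℕ) : F) ≠ 0 ∧ 2 ≤ m ∧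
    Nonempty (X ≃* PSp m F))
  psu : RowFor2 (fun X _ => ∃ (F : Type) (_ : Field F) (_ : Fintype F) (n q : ℕ), ((2 : ℕ) : F) ≠ 0 ∧
    Fintype.card F = q ^ 2 ∧ 3 ≤ n ∧ Nonempty (X ≃* PSU n F q))
  oodd : RowFor2 (fun X _ => ∃ (F : Type) (_ : Field F) (_ : Fintype F) (m : ℕ), ((2 : ℕ) : F) ≠ 0 ∧
    3 ≤ m ∧ Odd (Fintype.card F) ∧ Nonempty (X ≃* POmega F (quadFormOdd m F)))
  oplus : RowFor2 (fun X _ => ∃ (F : Type) (_ : Field F) (_ : Fintype F) (m : ℕ), ((2 : ℕ) : F) ≠ 0 ∧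
    4 ≤ m ∧ Nonempty (X ≃* POmega F (quadFormPlus m F)))
  ominus : RowFor2 (fun X _ => ∃ (F : Type) (_ : Field F) (_ : Fintype F) (m : ℕ) (a b : F), ((2 : ℕ) : F) ≠ 0 ∧
    4 ≤ m ∧ (∀ z₁ z₂ : F, z₁ ^ 2 + a * z₁ * z₂ + b * z₂ ^ 2 = 0 → z₁ = 0 ∧ z₂ = 0) ∧
    Nonempty (X ≃* POmega F (quadFormMinus (m - 1) F a b)))
  g2 : RowFor2 (fun X _ => ∃ (F : Type) (_ : Field F) (_ : Fintype F), ((2 : ℕ) : F) ≠ 0 ∧ 3 ≤ Fintype.card F ∧
    Nonempty (X ≃* Lie.chevG2.group F))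
  f4 : RowFor2 (fun X _ => ∃ (F : Type) (_ : Field F) (_ : Fintype F), ((2 : ℕ) : F) ≠ 0 ∧
    Nonempty (X ≃* Lie.chevF4.group F))
  e6 : RowFor2 (fun X _ => ∃ (F : Type) (_ : Field F) (_ : Fintype F), ((2 : ℕ) : F) ≠ 0 ∧
    Nonempty (X ≃* Lie.chevE6.group F))
  e7 : RowFor2 (fun X _ => ∃ (F : Type) (_ : Field F) (_ : Fintype F), ((2 : ℕ) : F) ≠ 0 ∧
    Nonempty (X ≃* Lie.chevE7.group F))
  e8 : RowFor2 (fun X _ => ∃ (F : Type) (_ : Field F) (_ : Fintype F), ((2 : ℕ) : F) ≠ 0 ∧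
    Nonempty (X ≃* Lie.chevE8.group F))
  te6 : RowFor2 (fun X _ => ∃ (K : Type) (_ : Field K) (_ : Fintype K) (q : ℕ), ((2 : ℕ) : K) ≠ 0 ∧ IsPrimePow q ∧
    Fintype.card K = q ^ 2 ∧ Nonempty (X ≃* Lie.twistedE6 K q))
  td4 : RowFor2 (fun X _ => ∃ (K : Type) (_ : Field K) (_ : Fintype K) (q : ℕ), ((2 : ℕ) : K) ≠ 0 ∧ IsPrimePow q ∧
    Fintype.card K = q ^ 3 ∧ Nonempty (X ≃* Lie.twistedD4 K q))
  sz : RowFor2 (fun X _ => Lie.IsoSuzuki X)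
  ree : RowFor2 (fun X _ => Lie.IsoRee X)
  tf4 : RowFor2 (fun X _ => Lie.Iso2F4 X)
  tits : RowFor2 (fun X _ => Lie.IsoTits X)
  spor : RowFor2 (fun X _ => IsSporadicGroup X)

namespace RA

section

variable {p : ℕ} [hp : Fact p.Prime] {X : Type} [Group X] [Fintype X] [IsSimpleGroup X]

theorem of_T {C : ∀ (X : Type) [Group X], Prop} (hC : RowForA p C) (hna : ¬ IsMulCommutative X)
    (hd : p ∣ Nat.card X) (h : C X) : H770.CY.RowA p X := hC X hna hd h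

theorem rpsl (R : RowsA p) (hna : ¬ IsMulCommutative X) (hd : p ∣ Nat.card X) (h : IsPSL X) : H770.CY.RowA p X := by
  obtain ⟨F, iF, iN, n, hn, hn2, ⟨e⟩⟩ := h
  by_cases hF : ((p : ℕ) : F) = 0
  · have h1 : IsPSLChar p X := ⟨F, iF, iN, charP_of (p := p) hF, n, hn, hn2, ⟨e⟩⟩
    exact of_T R.lie hna hd (Or.inl h1)
  · exact of_T R.psl hna hd ⟨F, iF, iN, n, hF, hn, ⟨e⟩⟩

theorem rpsp (R : RowsA p) (hna : ¬ IsMulCommutative X) (hd : p ∣ Nat.card X) (h : IsPSp X) : H770.CY.RowA p X := by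
  obtain ⟨F, iF, iN, n, hn, hn2, ⟨e⟩⟩ := h
  by_cases hF : ((p : ℕ) : F) = 0
  · have h1 : IsPSpChar p X := ⟨F, iF, iN, charP_of (p := p) hF, n, hn, hn2, ⟨e⟩⟩
    exact of_T R.lie hna hd (Or.inr (Or.inl h1))
  · exact of_T R.psp hna hd ⟨F, iF, iN, n, hF, hn, ⟨e⟩⟩

theorem rpsu (R : RowsA p) (hna : ¬ IsMulCommutative X) (hd : p ∣ Nat.card X) (h : IsPSU X) : H770.CY.RowA p X := by
  obtain ⟨F, iF, iN, n, q, hq, hn, hn2, ⟨e⟩⟩ := h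
  by_cases hF : ((p : ℕ) : F) = 0
  · have h1 : IsPSUChar p X := ⟨F, iF, iN, charP_of (p := p) hF, n, q, hq, hn, hn2, ⟨e⟩⟩
    exact of_T R.lie hna hd (Or.inr (Or.inr (Or.inl h1)))
  · exact of_T R.psu hna hd ⟨F, iF, iN, n, q, hF, hq, hn, ⟨e⟩⟩

theorem rpodd (R : RowsA p) (hna : ¬ IsMulCommutative X) (hd : p ∣ Nat.card X) (h : IsPOmegaOdd X) : H770.CY.RowA p X := by
  obtain ⟨F, iF, iN, m, hm, hodd, ⟨e⟩⟩ := h
  by_cases hF : ((p : ℕ) : F) = 0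
  · have h1 : IsPOmegaOddChar p X := ⟨F, iF, iN, charP_of (p := p) hF, m, hm, hodd, ⟨e⟩⟩
    exact of_T R.lie hna hd (Or.inr (Or.inr (Or.inr (Or.inl h1))))
  · exact of_T R.oodd hna hd ⟨F, iF, iN, m, hF, hm, hodd, ⟨e⟩⟩

theorem rpplus (R : RowsA p) (hna : ¬ IsMulCommutative X) (hd : p ∣ Nat.card X) (h : IsPOmegaPlus X) : H770.CY.RowA p X := by
  obtain ⟨F, iF, iN, m, hm, ⟨e⟩⟩ := h
  by_cases hF : ((p : ℕ) : F) = 0
  · have h1 : IsPOmegaPlusChar p X := ⟨F, iF, iN, charP_of (p := p) hF, m, hm, ⟨e⟩⟩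
    exact of_T R.lie hna hd (Or.inr (Or.inr (Or.inr (Or.inr (Or.inl h1)))))
  · exact of_T R.oplus hna hd ⟨F, iF, iN, m, hF, hm, ⟨e⟩⟩

theorem rpminus (R : RowsA p) (hna : ¬ IsMulCommutative X) (hd : p ∣ Nat.card X) (h : IsPOmegaMinus X) : H770.CY.RowA p X := by
  obtain ⟨F, iF, iN, m, a, b, hm, hab, ⟨e⟩⟩ := h
  by_cases hF : ((p : ℕ) : F) = 0
  · have h1 : IsPOmegaMinusChar p X := ⟨F, iF, iN, charP_of (p := p) hF, m, a, b, hm, hab, ⟨e⟩⟩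
    exact of_T R.lie hna hd (Or.inr (Or.inr (Or.inr (Or.inr (Or.inr (Or.inl h1))))))
  · exact of_T R.ominus hna hd ⟨F, iF, iN, m, a, b, hF, hm, hab, ⟨e⟩⟩

theorem lie_exc (R : RowsA p) (hna : ¬ IsMulCommutative X) (hd : p ∣ Nat.card X) (h : IsExceptionalChevChar p X) : H770.CY.RowA p X :=
  of_T R.lie hna hd (Or.inr (Or.inr (Or.inr (Or.inr (Or.inr (Or.inr (Or.inl h)))))))

theorem lie_tw (R : RowsA p) (hna : ¬ IsMulCommutative X) (hd : p ∣ Nat.card X) (h : IsTwistedE6D4Char p X) : H770.CY.RowA p X :=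
  of_T R.lie hna hd (Or.inr (Or.inr (Or.inr (Or.inr (Or.inr (Or.inr (Or.inr (Or.inl h))))))))

theorem rexc (R : RowsA p) (hna : ¬ IsMulCommutative X) (hd : p ∣ Nat.card X) (h : IsExceptionalLieType X) : H770.CY.RowA p X := by
  rcases h with h | h | h | h | h | h | h | h | h | h | h
  · obtain ⟨F, iF, iN, h3, ⟨e⟩⟩ := h
    by_cases hF : ((p : ℕ) : F) = 0
    · exact lie_exc R hna hd ⟨F, iF, iN, charP_of (p := p) hF, Or.inl ⟨h3, ⟨e⟩⟩⟩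
    · exact of_T R.g2 hna hd ⟨F, iF, iN, hF, h3, ⟨e⟩⟩
  · obtain ⟨F, iF, iN, ⟨e⟩⟩ := h
    by_cases hF : ((p : ℕ) : F) = 0
    · exact lie_exc R hna hd ⟨F, iF, iN, charP_of (p := p) hF, Or.inr (Or.inl ⟨e⟩)⟩
    · exact of_T R.f4 hna hd ⟨F, iF, iN, hF, ⟨e⟩⟩
  · obtain ⟨F, iF, iN, ⟨e⟩⟩ := h
    by_cases hF : ((p : ℕ) : F) = 0
    · exact lie_exc R hna hd ⟨F, iF, iN, charP_of (p := p) hF, Or.inr (Or.inr (Or.inl ⟨e⟩))⟩
    · exact of_T R.e6 hna hd ⟨F, iF, iN, hF, ⟨e⟩⟩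
  · obtain ⟨F, iF, iN, ⟨e⟩⟩ := h
    by_cases hF : ((p : ℕ) : F) = 0
    · exact lie_exc R hna hd ⟨F, iF, iN, charP_of (p := p) hF, Or.inr (Or.inr (Or.inr (Or.inl ⟨e⟩)))⟩
    · exact of_T R.e7 hna hd ⟨F, iF, iN, hF, ⟨e⟩⟩
  · obtain ⟨F, iF, iN, ⟨e⟩⟩ := h
    by_cases hF : ((p : ℕ) : F) = 0
    · exact lie_exc R hna hd ⟨F, iF, iN, charP_of (p := p) hF, Or.inr (Or.inr (Or.inr (Or.inr ⟨e⟩)))⟩
    · exact of_T R.e8 hna hd ⟨F, iF, iN, hF, ⟨e⟩⟩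
  · obtain ⟨K, iF, iN, q, hq, hK, ⟨e⟩⟩ := h
    by_cases hF : ((p : ℕ) : K) = 0
    · exact lie_tw R hna hd ⟨K, iF, iN, charP_of (p := p) hF, q, hq, Or.inl ⟨hK, ⟨e⟩⟩⟩
    · exact of_T R.te6 hna hd ⟨K, iF, iN, q, hF, hq, hK, ⟨e⟩⟩
  · obtain ⟨K, iF, iN, q, hq, hK, ⟨e⟩⟩ := h
    by_cases hF : ((p : ℕ) : K) = 0
    · exact lie_tw R hna hd ⟨K, iF, iN, charP_of (p := p) hF, q, hq, Or.inr ⟨hK, ⟨e⟩⟩⟩
    · exact of_T R.td4 hna hd ⟨K, iF, iN, q, hF, hq, hK, ⟨e⟩⟩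
  · exact of_T R.sz hna hd h
  · by_cases hp3 : p = 3
    · exact of_T R.lie hna hd (Or.inr (Or.inr (Or.inr (Or.inr (Or.inr (Or.inr (Or.inr (Or.inr (Or.inr (Or.inr
        ⟨hp3, h⟩))))))))))
    · exact of_T (R.ree hp3) hna hd h
  · exact of_T R.tf4 hna hd h
  · exact of_T R.tits hna hd h

end

end RA

/-- **the dispatch** -/
theorem rowA_known {p : ℕ} [Fact p.Prime] (R : RowsA p) {G : Type u} [Group G] [Fintype G] [IsSimpleGroup G]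
    (hna : ¬ IsMulCommutative G) (hd : p ∣ Nat.card G) (hk : IsKnownSimple' G) : H770.CY.RowA p G := by
  have e : G ≃* Shrink.{0} G := (Shrink.mulEquiv.{0}).symm
  have hf : Finite (Shrink.{0} G) := Finite.of_equiv _ e.toEquiv
  have hf' : Fintype (Shrink.{0} G) := Fintype.ofFinite _
  have hs : IsSimpleGroup (Shrink.{0} G) := e.symm.isSimpleGroup
  have h1 := nonab_congr e hna
  have h2 : p ∣ Nat.card (Shrink.{0} G) := by rwa [← Nat.card_congr e.toEquiv]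
  refine RowA.congr e ?_
  rcases OddHalf.Known.isKnownSimple'_congr e hna hk with h | h | h | h | h | h | h | h | h | h
  · exfalso
    have h3 : (Nat.card (Shrink.{0} G)).Prime := h
    have : Fact (Nat.card (Shrink.{0} G)).Prime := ⟨h3⟩
    have hc : IsCyclic (Shrink.{0} G) := isCyclic_of_prime_card rfl
    exact h1 ⟨⟨fun a b => by
      let _ : CommGroup (Shrink.{0} G) := IsCyclic.commGroup
      exact mul_comm a b⟩⟩
  · exact RA.of_T R.alt h1 h2 h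
  · exact RA.rpsl R h1 h2 h
  · exact RA.rpsp R h1 h2 h
  · exact RA.rpsu R h1 h2 h
  · exact RA.rpodd R h1 h2 h
  · exact RA.rpplus R h1 h2 h
  · exact RA.rpminus R h1 h2 h
  · exact RA.rexc R h1 h2 h
  · exact RA.of_T R.spor h1 h2 h

namespace RB

section

variable {X : Type} [Group X] [Finite X] [IsSimpleGroup X]

theorem of_T {C : ∀ (X : Type) [Group X], Prop} (hC : RowFor2 C) (hna : ¬ IsMulCommutative X)
    (h : C X) : Row2 X := hC X hna h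

theorem rpsl (R : Rows2) (hna : ¬ IsMulCommutative X) (h : IsPSL X) : Row2 X := by
  obtain ⟨F, iF, iN, n, hn, hn2, ⟨e⟩⟩ := h
  by_cases hF : ((2 : ℕ) : F) = 0
  · have h1 : IsPSLChar 2 X := ⟨F, iF, iN, charP_of (p := 2) hF, n, hn, hn2, ⟨e⟩⟩
    exact of_T R.lie hna (Or.inl h1)
  · exact of_T R.psl hna ⟨F, iF, iN, n, hF, hn, ⟨e⟩⟩

theorem rpsp (R : Rows2) (hna : ¬ IsMulCommutative X) (h : IsPSp X) : Row2 X := by
  obtain ⟨F, iF, iN, n, hn, hn2, ⟨e⟩⟩ := h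
  by_cases hF : ((2 : ℕ) : F) = 0
  · have h1 : IsPSpChar 2 X := ⟨F, iF, iN, charP_of (p := 2) hF, n, hn, hn2, ⟨e⟩⟩
    exact of_T R.lie hna (Or.inr (Or.inl h1))
  · exact of_T R.psp hna ⟨F, iF, iN, n, hF, hn, ⟨e⟩⟩

theorem rpsu (R : Rows2) (hna : ¬ IsMulCommutative X) (h : IsPSU X) : Row2 X := by
  obtain ⟨F, iF, iN, n, q, hq, hn, hn2, ⟨e⟩⟩ := h
  by_cases hF : ((2 : ℕ) : F) = 0
  · have h1 : IsPSUChar 2 X := ⟨F, iF, iN, charP_of (p := 2) hF, n, q, hq, hn, hn2, ⟨e⟩⟩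
    exact of_T R.lie hna (Or.inr (Or.inr (Or.inl h1)))
  · exact of_T R.psu hna ⟨F, iF, iN, n, q, hF, hq, hn, ⟨e⟩⟩

theorem rpodd (R : Rows2) (hna : ¬ IsMulCommutative X) (h : IsPOmegaOdd X) : Row2 X := by
  obtain ⟨F, iF, iN, m, hm, hodd, ⟨e⟩⟩ := h
  by_cases hF : ((2 : ℕ) : F) = 0
  · have h1 : IsPOmegaOddChar 2 X := ⟨F, iF, iN, charP_of (p := 2) hF, m, hm, hodd, ⟨e⟩⟩
    exact of_T R.lie hna (Or.inr (Or.inr (Or.inr (Or.inl h1))))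
  · exact of_T R.oodd hna ⟨F, iF, iN, m, hF, hm, hodd, ⟨e⟩⟩

theorem rpplus (R : Rows2) (hna : ¬ IsMulCommutative X) (h : IsPOmegaPlus X) : Row2 X := by
  obtain ⟨F, iF, iN, m, hm, ⟨e⟩⟩ := h
  by_cases hF : ((2 : ℕ) : F) = 0
  · have h1 : IsPOmegaPlusChar 2 X := ⟨F, iF, iN, charP_of (p := 2) hF, m, hm, ⟨e⟩⟩
    exact of_T R.lie hna (Or.inr (Or.inr (Or.inr (Or.inr (Or.inl h1)))))
  · exact of_T R.oplus hna ⟨F, iF, iN, m, hF, hm, ⟨e⟩⟩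

theorem rpminus (R : Rows2) (hna : ¬ IsMulCommutative X) (h : IsPOmegaMinus X) : Row2 X := by
  obtain ⟨F, iF, iN, m, a, b, hm, hab, ⟨e⟩⟩ := h
  by_cases hF : ((2 : ℕ) : F) = 0
  · have h1 : IsPOmegaMinusChar 2 X := ⟨F, iF, iN, charP_of (p := 2) hF, m, a, b, hm, hab, ⟨e⟩⟩
    exact of_T R.lie hna (Or.inr (Or.inr (Or.inr (Or.inr (Or.inr (Or.inl h1))))))
  · exact of_T R.ominus hna ⟨F, iF, iN, m, a, b, hF, hm, hab, ⟨e⟩⟩

theorem lie_exc (R : Rows2) (hna : ¬ IsMulCommutative X) (h : IsExceptionalChevChar 2 X) : Row2 X :=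
  of_T R.lie hna (Or.inr (Or.inr (Or.inr (Or.inr (Or.inr (Or.inr (Or.inl h)))))))

theorem lie_tw (R : Rows2) (hna : ¬ IsMulCommutative X) (h : IsTwistedE6D4Char 2 X) : Row2 X :=
  of_T R.lie hna (Or.inr (Or.inr (Or.inr (Or.inr (Or.inr (Or.inr (Or.inr (Or.inl h))))))))

theorem rexc (R : Rows2) (hna : ¬ IsMulCommutative X) (h : IsExceptionalLieType X) : Row2 X := by
  rcases h with h | h | h | h | h | h | h | h | h | h | h
  · obtain ⟨F, iF, iN, h3, ⟨e⟩⟩ := h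
    by_cases hF : ((2 : ℕ) : F) = 0
    · exact lie_exc R hna ⟨F, iF, iN, charP_of (p := 2) hF, Or.inl ⟨h3, ⟨e⟩⟩⟩
    · exact of_T R.g2 hna ⟨F, iF, iN, hF, h3, ⟨e⟩⟩
  · obtain ⟨F, iF, iN, ⟨e⟩⟩ := h
    by_cases hF : ((2 : ℕ) : F) = 0
    · exact lie_exc R hna ⟨F, iF, iN, charP_of (p := 2) hF, Or.inr (Or.inl ⟨e⟩)⟩
    · exact of_T R.f4 hna ⟨F, iF, iN, hF, ⟨e⟩⟩
  · obtain ⟨F, iF, iN, ⟨e⟩⟩ := h
    by_cases hF : ((2 : ℕ) : F) = 0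
    · exact lie_exc R hna ⟨F, iF, iN, charP_of (p := 2) hF, Or.inr (Or.inr (Or.inl ⟨e⟩))⟩
    · exact of_T R.e6 hna ⟨F, iF, iN, hF, ⟨e⟩⟩
  · obtain ⟨F, iF, iN, ⟨e⟩⟩ := h
    by_cases hF : ((2 : ℕ) : F) = 0
    · exact lie_exc R hna ⟨F, iF, iN, charP_of (p := 2) hF, Or.inr (Or.inr (Or.inr (Or.inl ⟨e⟩)))⟩
    · exact of_T R.e7 hna ⟨F, iF, iN, hF, ⟨e⟩⟩
  · obtain ⟨F, iF, iN, ⟨e⟩⟩ := h
    by_cases hF : ((2 : ℕ) : F) = 0
    · exact lie_exc R hna ⟨F, iF, iN, charP_of (p := 2) hF, Or.inr (Or.inr (Or.inr (Or.inr ⟨e⟩)))⟩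
    · exact of_T R.e8 hna ⟨F, iF, iN, hF, ⟨e⟩⟩
  · obtain ⟨K, iF, iN, q, hq, hK, ⟨e⟩⟩ := h
    by_cases hF : ((2 : ℕ) : K) = 0
    · exact lie_tw R hna ⟨K, iF, iN, charP_of (p := 2) hF, q, hq, Or.inl ⟨hK, ⟨e⟩⟩⟩
    · exact of_T R.te6 hna ⟨K, iF, iN, q, hF, hq, hK, ⟨e⟩⟩
  · obtain ⟨K, iF, iN, q, hq, hK, ⟨e⟩⟩ := h
    by_cases hF : ((2 : ℕ) : K) = 0
    · exact lie_tw R hna ⟨K, iF, iN, charP_of (p := 2) hF, q, hq, Or.inr ⟨hK, ⟨e⟩⟩⟩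
    · exact of_T R.td4 hna ⟨K, iF, iN, q, hF, hq, hK, ⟨e⟩⟩
  · exact of_T R.sz hna h
  · exact of_T R.ree hna h
  · exact of_T R.tf4 hna h
  · exact of_T R.tits hna h

end

end RB

/-- **the dispatch** -/
theorem row2_known (R : Rows2) {G : Type u} [Group G] [Finite G] [IsSimpleGroup G]
    (hna : ¬ IsMulCommutative G) (hk : IsKnownSimple' G) : Row2 G := by
  have e : G ≃* Shrink.{0} G := (Shrink.mulEquiv.{0}).symm
  have hf : Finite (Shrink.{0} G) := Finite.of_equiv _ e.toEquiv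
  have hs : IsSimpleGroup (Shrink.{0} G) := e.symm.isSimpleGroup
  have h1 := nonab_congr e hna
  refine Row2.congr e ?_
  rcases OddHalf.Known.isKnownSimple'_congr e hna hk with h | h | h | h | h | h | h | h | h | h
  · exfalso
    have h3 : (Nat.card (Shrink.{0} G)).Prime := h
    have : Fact (Nat.card (Shrink.{0} G)).Prime := ⟨h3⟩
    have hc : IsCyclic (Shrink.{0} G) := isCyclic_of_prime_card rfl
    exact h1 ⟨⟨fun a b => by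
      let _ : CommGroup (Shrink.{0} G) := IsCyclic.commGroup
      exact mul_comm a b⟩⟩
  · exact RB.of_T R.alt h1 h
  · exact RB.rpsl R h1 h
  · exact RB.rpsp R h1 h
  · exact RB.rpsu R h1 h
  · exact RB.rpodd R h1 h
  · exact RB.rpplus R h1 h
  · exact RB.rpminus R h1 h
  · exact RB.rexc R h1 h
  · exact RB.of_T R.spor h1 h

/-- **all simple groups**, from the rows and the classification -/
theorem rowA_all {p : ℕ} [Fact p.Prime] (R : RowsA p)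
    (hcfsg : ∀ (G : Type u) [Group G] [Finite G] [IsSimpleGroup G], IsKnownSimple' G)
    (S : Type u) [Group S] [Fintype S] [IsSimpleGroup S] (hna : ¬ IsMulCommutative S)
    (hd : p ∣ Nat.card S) : H770.CY.RowA p S :=
  rowA_known R hna hd (hcfsg S)

/-- **all simple groups** for `p = 2` -/
theorem row2_all (R : Rows2)
    (hcfsg : ∀ (G : Type u) [Group G] [Finite G] [IsSimpleGroup G], IsKnownSimple' G)
    (S : Type u) [Group S] [Finite S] [IsSimpleGroup S] (hna : ¬ IsMulCommutative S) : Row2 S :=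
  row2_known R hna (hcfsg S)

end Cfsg.Agent.H776.CY
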